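import Mathlib.CategoryTheory.Sites.PrecoverageToGrothendieck

/-! # Topology generated by two classes of families -/

set_option autoImplicit false
set_option linter.all false

universe w v₁ u₁

open CategoryTheory

namespace Groth.Agent.GenTop

variable {C : Type u₁} [Category.{v₁} C] (C' : C → Prop) (P P' : Precoverage C)

theorem exists_comp [P.IsStableUnderComposition] {X : C} {R : Presieve X} (hR : R ∈ P X)
    (R₂ : ∀ ⦃Y : C⦄ ⦃f : Y ⟶ X⦄, R f → Presieve Y)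
    (hR₂ : ∀ ⦃Y : C⦄ ⦃f : Y ⟶ X⦄ (hf : R f), R₂ hf ∈ P Y) :
    ∃ T ∈ P X, ∀ ⦃W : C⦄ ⦃q : W ⟶ X⦄, T q →
      ∃ (Y : C) (f : Y ⟶ X) (hf : R f) (g : W ⟶ Y), R₂ hf g ∧ g ≫ f = q := by
  obtain ⟨ι, Z, f, rfl⟩ := R.exists_eq_ofArrows
  choose σ Y g hg using fun i => (R₂ (Presieve.ofArrows.mk i)).exists_eq_ofArrows
  refine ⟨_, Precoverage.comp_mem_coverings (J := P) f hR g (fun i => (hg i) ▸ hR₂ _), ?_⟩
  rintro W q ⟨⟨i, j⟩⟩
  refine ⟨Z i, f i, .mk i, g i j, ?_, rfl⟩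
  rw [hg i]
  exact .mk j

/-- Composite coverings. -/
def Comp {X : C} (S' : Sieve X) : Prop :=
  ∃ (R : Presieve X) (_ : R ∈ P X) (_ : ∀ ⦃Y : C⦄ ⦃f : Y ⟶ X⦄, R f → C' Y)
        (R' : ∀ ⦃Y : C⦄ ⦃f : Y ⟶ X⦄, R f → Presieve Y),
        (∀ ⦃Y : C⦄ ⦃f : Y ⟶ X⦄ (hf : R f), R' hf ∈ P' Y) ∧
        ∀ ⦃Y : C⦄ ⦃f : Y ⟶ X⦄ (hf : R f) ⦃Z : C⦄ ⦃g : Z ⟶ Y⦄, R' hf g → S' (g ≫ f)

variable [P.HasPullbacks] [P.IsStableUnderBaseChange] [P.IsStableUnderComposition]
    (hP'C : ∀ ⦃X : C⦄ ⦃R : Presieve X⦄, R ∈ P' X → C' X ∧ ∀ ⦃Y : C⦄ ⦃f : Y ⟶ X⦄, R f → C' Y)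
    (hP'id : ∀ ⦃X : C⦄, C' X → Presieve.singleton (𝟙 X) ∈ P' X)
    (ha : ∀ ⦃X : C⦄ ⦃R : Presieve X⦄, R ∈ P' X → ∀ ⦃T : C⦄ (g : T ⟶ X), C' T →
      ∃ _ : R.HasPullbacks g, Presieve.pullbackArrows g R ∈ P' T)
    (hb : ∀ X : C, ∃ R ∈ P X, ∀ ⦃Y : C⦄ ⦃f : Y ⟶ X⦄, R f → C' Y)
    (hc : ∀ ⦃S : C⦄ ⦃R₁ : Presieve S⦄, R₁ ∈ P' S →
      ∀ (R₂ : ∀ ⦃Y : C⦄ ⦃f : Y ⟶ S⦄, R₁ f → Presieve Y),
        (∀ ⦃Y : C⦄ ⦃f : Y ⟶ S⦄ (hf : R₁ f), R₂ hf ∈ P Y ∧ ∀ ⦃Z : C⦄ ⦃g : Z ⟶ Y⦄, R₂ hf g → C' Z) →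
      ∀ (R₃ : ∀ ⦃Y : C⦄ ⦃f : Y ⟶ S⦄ (hf : R₁ f) ⦃Z : C⦄ ⦃g : Z ⟶ Y⦄, R₂ hf g → Presieve Z),
        (∀ ⦃Y : C⦄ ⦃f : Y ⟶ S⦄ (hf : R₁ f) ⦃Z : C⦄ ⦃g : Z ⟶ Y⦄ (hg : R₂ hf g), R₃ hf hg ∈ P' Z) →
      ∃ T ∈ P' S, ∀ ⦃W : C⦄ ⦃q : W ⟶ S⦄, T q →
        ∃ (Y Z V : C) (f : Y ⟶ S) (hf : R₁ f) (g : Z ⟶ Y) (hg : R₂ hf g) (h : V ⟶ Z) (_ : R₃ hf hg h)
          (r : W ⟶ V), r ≫ h ≫ g ≫ f = q)

include hP'C hP'id ha hb hc

/-- the topology of composite coverings -/
def compTopology : GrothendieckTopology C where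
  sieves X := {S | Comp C' P P' S}
  top_mem' X := by
    obtain ⟨R, hR, hRC⟩ := hb X
    exact ⟨R, hR, hRC, fun Y f _ => Presieve.singleton (𝟙 Y), fun Y f hf => hP'id (hRC hf),
      fun Y f hf Z g _ => trivial⟩
  pullback_stable' X T S g hS := by
    obtain ⟨R, hR, hRC, R', hR', hS⟩ := hS
    haveI : R.HasPullbacks g := P.hasPullbacks_of_mem g hR
    have hRT : R.pullbackArrows g ∈ P T := Precoverage.pullbackArrows_mem g hR
    choose B hB hBC using hb
    obtain ⟨Q, hQ, hQq⟩ := exists_comp P hRT (fun Y f _ => B Y) (fun Y f _ => hB Y)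
    have key : ∀ ⦃W : C⦄ ⦃q : W ⟶ T⦄, Q q → C' W ∧ ∃ R'' ∈ P' W, ∀ ⦃Z : C⦄ ⦃h : Z ⟶ W⦄, R'' h → S ((h ≫ q) ≫ g) := by
      intro W q hq
      obtain ⟨Y, f, hf, k, hk, rfl⟩ := hQq hq
      refine ⟨hBC _ hk, ?_⟩
      obtain ⟨Y₀, f₀, hf₀⟩ := hf
      haveI := Presieve.hasPullback g hf₀
      obtain ⟨_, hmem⟩ := ha (hR' hf₀) (k ≫ Limits.pullback.fst f₀ g) (hBC _ hk)
      refine ⟨_, hmem, ?_⟩
      rintro Z h ⟨V, e, he⟩
      haveI := Presieve.hasPullback (k ≫ Limits.pullback.fst f₀ g) he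
      have := S.downward_closed (hS hf₀ he) (Limits.pullback.fst e (k ≫ Limits.pullback.fst f₀ g))
      rw [← Category.assoc, Limits.pullback.condition] at this
      simpa [Limits.pullback.condition] using this
    refine ⟨Q, hQ, fun W q hq => (key hq).1, fun W q hq => (key hq).2.choose, fun W q hq => (key hq).2.choose_spec.1, ?_⟩
    intro W q hq Z h hh
    exact (key hq).2.choose_spec.2 hh
  transitive' X S hS S₂ h₂ := by
    obtain ⟨R, hR, hRC, R', hR', hS⟩ := hS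
    have key : ∀ ⦃Y : C⦄ ⦃f : Y ⟶ X⦄ (hf : R f), ∃ T ∈ P' Y, ∀ ⦃W : C⦄ ⦃q : W ⟶ Y⦄, T q → S₂ (q ≫ f) := by
      intro Y f hf
      have h3 : ∀ ⦃Z : C⦄ ⦃g : Z ⟶ Y⦄, R' hf g → Comp C' P P' (S₂.pullback (g ≫ f)) := fun Z g hg => h₂ (hS hf hg)
      obtain ⟨T, hT, hTq⟩ := hc (hR' hf) (fun Z g hg => (h3 hg).choose)
        (fun Z g hg => ⟨(h3 hg).choose_spec.choose, (h3 hg).choose_spec.choose_spec.choose⟩)
        (fun Z g hg V k hk => (h3 hg).choose_spec.choose_spec.choose_spec.choose hk)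
        (fun Z g hg V k hk => (h3 hg).choose_spec.choose_spec.choose_spec.choose_spec.1 hk)
      refine ⟨T, hT, fun W q hq => ?_⟩
      obtain ⟨Z, V, V', g, hg, k, hk, h, hh, r, rfl⟩ := hTq hq
      have := S₂.downward_closed ((h3 hg).choose_spec.choose_spec.choose_spec.choose_spec.2 hk hh) r
      simpa [Category.assoc] using this
    exact ⟨R, hR, hRC, fun Y f hf => (key hf).choose, fun Y f hf => (key hf).choose_spec.1,
      fun Y f hf Z g hg => (key hf).choose_spec.2 hg⟩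

theorem mem_iff (X : C) (S' : Sieve X) :
    S' ∈ (P ⊔ P').toGrothendieck X ↔ Comp C' P P' S' := by
  constructor
  · intro h
    have : (P ⊔ P').toGrothendieck ≤ compTopology C' P P' hP'id ha hb hc := by
      rw [Precoverage.toGrothendieck_le_iff_le_toPrecoverage]
      intro Y R hR
      rw [GrothendieckTopology.mem_toPrecoverage_iff]
      show Comp C' P P' (Sieve.generate R)
      rcases hR with hR | hR
      · choose B hB hBC using hb
        obtain ⟨Q, hQ, hQq⟩ := exists_comp P hR (fun Z f _ => B Z) (fun Z f _ => hB Z)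
        have hC : ∀ ⦃W : C⦄ ⦃q : W ⟶ Y⦄, Q q → C' W := fun W q hq => by
          obtain ⟨Z, f, hf, k, hk, rfl⟩ := hQq hq
          exact hBC _ hk
        refine ⟨Q, hQ, hC, fun W q _ => Presieve.singleton (𝟙 W), fun W q hq => hP'id (hC hq), fun W q hq Z g _ => ?_⟩
        obtain ⟨Z', f, hf, k, hk, rfl⟩ := hQq hq
        exact ⟨_, g ≫ k, f, hf, Category.assoc _ _ _⟩
      · obtain ⟨B, hB, hBC⟩ := hb Y
        have key : ∀ ⦃W : C⦄ ⦃q : W ⟶ Y⦄, B q → ∃ R' ∈ P' W, ∀ ⦃Z : C⦄ ⦃h : Z ⟶ W⦄, R' h → (Sieve.generate R) (h ≫ q) := by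
          intro W q hq
          obtain ⟨_, hmem⟩ := ha hR q (hBC hq)
          refine ⟨_, hmem, ?_⟩
          rintro Z h ⟨V, e, he⟩
          haveI := Presieve.hasPullback q he
          exact ⟨V, Limits.pullback.fst e q, e, he, Limits.pullback.condition⟩
        exact ⟨B, hB, hBC, fun W q hq => (key hq).choose, fun W q hq => (key hq).choose_spec.1,
          fun W q hq Z g hg => (key hq).choose_spec.2 hg⟩
    exact this _ h
  · rintro ⟨R, hR, hRC, R', hR', hS⟩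
    refine GrothendieckTopology.transitive _ (Precoverage.generate_mem_toGrothendieck
      (show R ∈ (P ⊔ P') X from Or.inl hR)) _ ?_
    rintro W q ⟨Y, r, f, hf, rfl⟩
    rw [Sieve.pullback_comp]
    refine GrothendieckTopology.pullback_stable _ r (GrothendieckTopology.superset_covering _ ?_
      (Precoverage.generate_mem_toGrothendieck (show R' hf ∈ (P ⊔ P') Y from Or.inr (hR' hf))))
    rw [Sieve.generate_le_iff]
    exact fun Z g hg => hS hf hg

theorem isSheaf_iff (F : Cᵒᵖ ⥤ Type w) :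
    Presieve.IsSheaf (P ⊔ P').toGrothendieck F ↔
      (∀ ⦃X : C⦄ ⦃R : Presieve X⦄, R ∈ P X → Presieve.IsSheafFor F R) ∧
      (∀ ⦃X : C⦄ ⦃R : Presieve X⦄, R ∈ P' X → Presieve.IsSheafFor F R) := by
  constructor
  · intro h
    exact ⟨fun X R hR => (Presieve.isSheafFor_iff_generate R).2 (h _ (Precoverage.generate_mem_toGrothendieck (Or.inl hR))),
      fun X R hR => (Presieve.isSheafFor_iff_generate R).2 (h _ (Precoverage.generate_mem_toGrothendieck (Or.inr hR)))⟩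
  · rintro ⟨h, h'⟩
    have hP : ∀ {X Y : C} (f : Y ⟶ X) (R : Presieve X), R ∈ P X →
        Presieve.IsSheafFor F ((Sieve.generate R).pullback f).arrows := fun {X Y} f R hR => by
      haveI : R.HasPullbacks f := P.hasPullbacks_of_mem f hR
      rw [← Sieve.pullbackArrows_comm, ← Presieve.isSheafFor_iff_generate]
      exact h (Precoverage.pullbackArrows_mem f hR)
    rw [Precoverage.isSheaf_toGrothendieck_iff]
    intro X Y f R hR
    rcases hR with hR | hR
    · exact hP f R hR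
    · obtain ⟨B, hB, hBC⟩ := hb Y
      clear hB hBC B
      have hC : ∀ {Z : C} (q : Z ⟶ X), C' Z → Presieve.IsSheafFor F ((Sieve.generate R).pullback q).arrows := by
        intro Z q hZ
        obtain ⟨_, hmem⟩ := ha hR q hZ
        rw [← Sieve.pullbackArrows_comm, ← Presieve.isSheafFor_iff_generate]
        exact h' hmem
      obtain ⟨B, hB, hBC⟩ := hb Y
      let S := (Sieve.generate R).pullback f
      have hsep : ∀ {Z : C} (q : Z ⟶ Y), C' Z → Presieve.IsSheafFor F (S.pullback q).arrows := fun {Z} q hZ => by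
        rw [← Sieve.pullback_comp]
        exact hC _ hZ
      have hext : ∀ (t t' : F.obj (.op Y)), (∀ ⦃W : C⦄ ⦃s : W ⟶ Y⦄, S s → F.map s.op t = F.map s.op t') → t = t' := by
        intro t t' htt
        refine (h hB).isSeparatedFor.ext fun Z b hb' => (hsep b (hBC hb')).isSeparatedFor.ext fun W k hk => ?_
        rw [← Functor.map_comp_apply, ← Functor.map_comp_apply, ← op_comp]
        exact htt hk
      intro x hx
      have hxs : x.SieveCompatible := (Presieve.compatible_iff_sieveCompatible x).1 hx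
      let y : ∀ ⦃Z : C⦄ (b : Z ⟶ Y), Presieve.FamilyOfElements F (S.pullback b).arrows := fun Z b W k hk => x (k ≫ b) hk
      have hy : ∀ ⦃Z : C⦄ (b : Z ⟶ Y), (y b).Compatible := fun Z b => by
        rw [Presieve.compatible_iff_sieveCompatible]
        intro W V k g hk
        refine Eq.trans ?_ (hxs (k ≫ b) g hk)
        simp only [y]
        congr 1
        simp
      choose T hT hT' using fun (Z : C) (b : Z ⟶ Y) (hb' : B b) => hsep b (hBC hb') (y b) (hy b)
      have hTc : Presieve.FamilyOfElements.Compatible (fun Z b hb' => T Z b hb' : Presieve.FamilyOfElements F B) := by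
        intro Z Z' W g g' b b' h₁ h₂ heq
        obtain ⟨B', hB', hB'C⟩ := hb W
        refine (h hB').isSeparatedFor.ext fun V q hq => (hsep (q ≫ g ≫ b) (hB'C hq)).isSeparatedFor.ext fun U k hk => ?_
        have hk' : S ((k ≫ q ≫ g) ≫ b) := by simpa [Category.assoc] using hk
        have hk'' : S ((k ≫ q ≫ g') ≫ b') := by simpa [Category.assoc, ← heq] using hk
        have e1 := hT Z b h₁ (k ≫ q ≫ g) hk'
        have e2 := hT Z' b' h₂ (k ≫ q ≫ g') hk''
        simp only [op_comp, Functor.map_comp_apply] at e1 e2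
        rw [e1, e2]
        simp only [y]
        congr 1
        simp [Category.assoc, heq]
      obtain ⟨t, ht, -⟩ := h hB _ hTc
      refine ⟨t, fun W s hs => ?_, fun t' ht' => hext _ _ fun W s hs => ?_⟩
      · haveI : B.HasPullbacks s := P.hasPullbacks_of_mem s hB
        refine (h (Precoverage.pullbackArrows_mem s hB)).isSeparatedFor.ext fun V q hq => ?_
        obtain ⟨Z, b, hb'⟩ := hq
        haveI := Presieve.hasPullback s hb'
        have hsb : S (Limits.pullback.fst b s ≫ b) := by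
          rw [Limits.pullback.condition]; exact S.downward_closed hs _
        rw [← Functor.map_comp_apply, ← op_comp, ← Limits.pullback.condition, op_comp, Functor.map_comp_apply, ht b hb',
          hT Z b hb' _ hsb, ← hxs _ _ hs]
        simp only [y]
        congr 1
        exact Limits.pullback.condition
      · obtain ⟨B', hB', hB'C⟩ := hb W
        rw [ht' s hs]
        refine (h hB').isSeparatedFor.ext fun V q hq => ?_
        haveI : B.HasPullbacks (q ≫ s) := P.hasPullbacks_of_mem _ hB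
        refine (h (Precoverage.pullbackArrows_mem (q ≫ s) hB)).isSeparatedFor.ext fun U r hr => ?_
        obtain ⟨Z, b, hb'⟩ := hr
        haveI := Presieve.hasPullback (q ≫ s) hb'
        have hc1 := Limits.pullback.condition (f := b) (g := q ≫ s)
        have hsb : S (Limits.pullback.fst b (q ≫ s) ≫ b) := by
          rw [hc1, ← Category.assoc]; exact S.downward_closed hs _
        rw [← Functor.map_comp_apply (f := s.op), ← op_comp, ← Functor.map_comp_apply (f := (q ≫ s).op), ← op_comp, ← hc1, op_comp,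
          Functor.map_comp_apply, ht b hb', hT Z b hb' _ hsb, ← Functor.map_comp_apply, ← op_comp,
          ← hxs _ _ hs]
        simp only [y]
        congr 1
        simp [hc1]

end Groth.Agent.GenTop
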